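import Cfsg.Agent.H319.FC.Defs
import Cfsg.Agent.Prune
set_option linter.all false
prune_inst 0x7fffb9fbfffdbfffffff7fffafdedffc3f95dfffbffffd4bffe86bff9fff139e0def2bad0de09aff5ff7649650b87853ffffffffe96ffc7ffffdfff45ffbee5ff7ffbd0851de8cb40fbc0ff793f07f8e7f3fffffffffffffffffffffffffffbeffffffffffff
open scoped Cfsg.Agent.FastGrp

/-!
# Tori of `SL₂(2^f)` (helper193, S5764, task SP4G-F1)

`stF1` : `StF1 F` for a finite field `F` of characteristic two with at least four elements.
-/

set_option autoImplicit false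
set_option linter.unusedSectionVars false

namespace Cfsg.Agent.H193.FC

open Matrix Cfsg.Agent.H319.FC

universe u

variable {F : Type u} [Field F]

local notation "M₂" => Matrix (Fin 2) (Fin 2) F
local notation "SL₂" => SpecialLinearGroup (Fin 2) F

section char2

variable [CharP F 2]

theorem ch2 (g : SL₂) : g.1 * g.1 = g.1.trace • g.1 + 1 := by
  have hd := g.2
  rw [det_fin_two] at hd
  have h2 : (2 : F) = 0 := CharTwo.two_eq_zero
  ext i j
  (revert i j; simp only [Matrix.mul_apply, Fin.sum_univ_two, trace_fin_two, _root_.Fin.forall_fin_succ, Fin.isValue, _root_.Matrix.add_apply, _root_.Matrix.smul_apply, _root_.smul_eq_mul, _root_.Fin.succ_zero_eq_one, _root_.IsEmpty.forall_iff, _root_.and_true, _root_.Matrix.one_apply_eq, Nat.reduceAdd, _root_.ne_eq, _root_.zero_ne_one, _root_.not_false_eq_true, _root_.Matrix.one_apply_ne, _root_.add_zero, _root_.Fin.succ_ne_zero]) <;> (repeat' with_reducible apply And.intro) <;>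
    first | ring1 | linear_combination (-hd) + (g.1 0 1 * g.1 1 0 - g.1 0 0 * g.1 1 1) * h2 | linear_combination (hd) - h2 | linear_combination (-hd) - h2

theorem det_comb (a b : F) (z : SL₂) : (a • (1 : M₂) + b • z.1).det = a ^ 2 + z.1.trace * a * b + b ^ 2 := by
  have hd := z.2
  rw [det_fin_two] at hd ⊢
  simp only [trace_fin_two, _root_.Fin.isValue, _root_.Matrix.add_apply, _root_.Matrix.smul_apply, _root_.Matrix.one_apply_eq, _root_.smul_eq_mul, _root_.mul_one, _root_.ne_eq, _root_.zero_ne_one, _root_.not_false_eq_true, _root_.Matrix.one_apply_ne, _root_.MulZeroClass.mul_zero, _root_.zero_add, _root_.one_ne_zero]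
  linear_combination b ^ 2 * hd

theorem trace_comb (a b : F) (z : SL₂) : (a • (1 : M₂) + b • z.1).trace = b * z.1.trace := by
  have h2 : (2 : F) = 0 := CharTwo.two_eq_zero
  rw [trace_add, trace_smul, trace_smul, trace_one, smul_eq_mul, smul_eq_mul]
  simp [h2]

theorem comb_inj {z : SL₂} (ht : z.1.trace ≠ 0) {a b a' b' : F}
    (h : a • (1 : M₂) + b • z.1 = a' • 1 + b' • z.1) : a = a' ∧ b = b' := by
  have h1 := congrArg Matrix.trace h
  rw [trace_comb, trace_comb] at h1
  have h2 := mul_right_cancel₀ ht h1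
  refine ⟨?_, h2⟩
  rw [h2] at h
  have h3 := add_right_cancel h
  have h4 := congrFun (congrFun h3 0) 0
  simpa using h4

theorem exists_comb {z : SL₂} (ht : z.1.trace ≠ 0) {M : M₂} (h : M * z.1 = z.1 * M) :
    ∃ a b : F, M = a • (1 : M₂) + b • z.1 := by
  have h2 : (2 : F) = 0 := CharTwo.two_eq_zero
  obtain ⟨b, hb⟩ : ∃ b, b * z.1.trace = M.trace := ⟨M.trace / z.1.trace, div_mul_cancel₀ _ ht⟩
  refine ⟨M 0 0 + b * z.1 0 0, b, ?_⟩
  rw [trace_fin_two] at ht hb
  rw [trace_fin_two] at hb
  have h01 := congrFun (congrFun h 0) 1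
  have h10 := congrFun (congrFun h 1) 0
  simp only [Matrix.mul_apply, Fin.sum_univ_two] at h01 h10
  ext i j
  fin_cases i <;> fin_cases j
  · simp
    linear_combination (-(b * z.1 0 0)) * h2
  · simp
    apply mul_left_cancel₀ ht
    linear_combination h01 - (z.1 0 1) * hb - (z.1 0 1 * (M 0 0) - z.1 0 0 * M 0 1 ) * h2
  · simp
    apply mul_left_cancel₀ ht
    linear_combination (-1) * h10 - (z.1 1 0) * hb + (z.1 0 0 * M 1 0 - z.1 1 0 * M 0 0 ) * h2
  · simp
    linear_combination (-1) * hb + (-(M 0 0)) * h2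

theorem trace_ne_zero {z : SL₂} (hz : z ≠ 1) (ho : Odd (orderOf z)) : z.1.trace ≠ 0 := by
  intro h
  have h1 := ch2 z
  rw [h, zero_smul, zero_add] at h1
  have h2 : z ^ 2 = 1 := by
    rw [pow_two]
    exact Subtype.ext h1
  have h3 := orderOf_dvd_of_pow_eq_one h2
  rcases (Nat.dvd_prime Nat.prime_two).1 h3 with h4 | h4
  · exact hz (orderOf_eq_one_iff.1 h4)
  · rw [h4] at ho
    exact absurd ho (by decide)

theorem mem_cent {z y : SL₂} : y ∈ Subgroup.centralizer ({z} : Set SL₂) ↔ y.1 * z.1 = z.1 * y.1 := by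
  rw [Subgroup.mem_centralizer_singleton_iff]
  constructor
  · intro h
    exact congrArg Subtype.val h
  · intro h
    exact Subtype.ext h

/-! ### the torus is cyclic -/

theorem mul_comb (a b a' b' : F) (z : SL₂) : (a • (1 : M₂) + b • z.1) * (a' • 1 + b' • z.1) =
    (a * a' + b * b') • (1 : M₂) + (a * b' + b * a' + b * b' * z.1.trace) • z.1 := by
  rw [add_mul, mul_add, mul_add, smul_mul_smul_comm, smul_mul_smul_comm, smul_mul_smul_comm, smul_mul_smul_comm, ch2,
    one_mul, one_mul, mul_one, smul_add, smul_smul, add_smul, add_smul, add_smul]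
  abel

theorem isCyclic_cent [Finite F] {z : SL₂} (ht : z.1.trace ≠ 0) :
    IsCyclic (Subgroup.centralizer ({z} : Set SL₂)) ∧
      ∀ x ∈ Subgroup.centralizer ({z} : Set SL₂), x ^ 2 = 1 → x = 1 := by
  let K := AlgebraicClosure F
  have hK : CharP K 2 := charP_of_injective_algebraMap (algebraMap F K).injective 2
  have hK2 : (2 : K) = 0 := CharTwo.two_eq_zero
  obtain ⟨t, htt⟩ : ∃ t : K, t = algebraMap F K z.1.trace := ⟨_, rfl⟩
  obtain ⟨l, hl⟩ : ∃ l : K, l * l = t * l + 1 := by
    obtain ⟨l, hl⟩ := IsAlgClosed.exists_root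
      ((Polynomial.X ^ 2 + Polynomial.C t * Polynomial.X + Polynomial.C 1 : Polynomial K)) (by
        have : (Polynomial.X ^ 2 + Polynomial.C t * Polynomial.X + Polynomial.C 1 : Polynomial K) =
          Polynomial.C 1 * Polynomial.X ^ 2 + Polynomial.C t * Polynomial.X + Polynomial.C 1 := by simp
        rw [this, Polynomial.degree_quadratic one_ne_zero]
        norm_num)
    refine ⟨l, ?_⟩
    have h1 : l ^ 2 + t * l + 1 = 0 := by simpa only [Polynomial.IsRoot, _root_.map_one, _root_.Polynomial.eval_add, _root_.Polynomial.eval_pow, _root_.Polynomial.eval_X, _root_.Polynomial.eval_mul, _root_.Polynomial.eval_C, _root_.Polynomial.eval_one] using hl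
    linear_combination h1 - (t * l + 1) * hK2
  have ht0 : t ≠ 0 := by
    rw [htt]
    simpa using ht
  have key : ∀ x : Subgroup.centralizer ({z} : Set SL₂), ∃ ab : F × F, x.1.1 = ab.1 • (1 : M₂) + ab.2 • z.1 := by
    intro x
    obtain ⟨a, b, h⟩ := exists_comb ht (mem_cent.1 x.2)
    exact ⟨(a, b), h⟩
  choose p hp using key
  have hp' : ∀ (x : Subgroup.centralizer ({z} : Set SL₂)) (a b : F), x.1.1 = a • (1 : M₂) + b • z.1 → p x = (a, b) := by
    intro x a b h
    obtain ⟨h1, h2⟩ := comb_inj ht ((hp x).symm.trans h)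
    exact Prod.ext h1 h2
  let f : Subgroup.centralizer ({z} : Set SL₂) →* K :=
    { toFun := fun x => algebraMap F K (p x).1 + algebraMap F K (p x).2 * l
      map_one' := by
        rw [hp' 1 1 0 (by
          change (1 : M₂) = _
          rw [one_smul, zero_smul, add_zero])]
        simp
      map_mul' := by
        intro x y
        have h1 : (x * y).1.1 = ((p x).1 * (p y).1 + (p x).2 * (p y).2) • (1 : M₂) +
            ((p x).1 * (p y).2 + (p x).2 * (p y).1 + (p x).2 * (p y).2 * z.1.trace) • z.1 := by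
          change x.1.1 * y.1.1 = _
          rw [hp x, hp y, mul_comb]
        rw [hp' _ _ _ h1]
        simp only [map_add, map_mul]
        rw [← htt]
        linear_combination (-(algebraMap F K (p x).2 * algebraMap F K (p y).2)) * hl }
  have hf : ∀ x, f x = algebraMap F K (p x).1 + algebraMap F K (p x).2 * l := fun x => rfl
  have hinj1 : ∀ x, f x = 1 → x = 1 := by
    intro x hx
    rw [hf] at hx
    have hd := x.1.2
    rw [hp x, det_comb] at hd
    have hd' := congrArg (algebraMap F K) hd
    simp only [map_add, map_mul, map_pow, map_one] at hd'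
    rw [← htt] at hd'
    obtain ⟨A, hA⟩ : ∃ A, A = algebraMap F K (p x).1 := ⟨_, rfl⟩
    obtain ⟨B, hB⟩ : ∃ B, B = algebraMap F K (p x).2 := ⟨_, rfl⟩
    rw [← hA, ← hB] at hx hd'
    have h1 : B * t = 0 := by
      have h2 : (A + B * l) * (A + B * (l + t)) = 1 := by
        linear_combination hd' + (B ^ 2) * hl + (A * B * l + B ^ 2 * t * l) * hK2
      rw [hx, one_mul] at h2
      linear_combination h2 - hx
    have hB0 : B = 0 := (mul_eq_zero.1 h1).resolve_right ht0
    rw [hB0, zero_mul, add_zero] at hx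
    have ha : (p x).1 = 1 := by
      apply (algebraMap F K).injective
      rw [← hA, hx, map_one]
    have hb : (p x).2 = 0 := by
      apply (algebraMap F K).injective
      rw [← hB, hB0, map_zero]
    apply Subtype.ext
    apply Subtype.ext
    rw [hp x, ha, hb, one_smul, zero_smul, add_zero]
    rfl
  have hinj : Function.Injective f := (injective_iff_map_eq_one f).2 hinj1
  refine ⟨isCyclic_of_injective_ringHom f hinj, fun x hx hx2 => ?_⟩
  have h1 : f ⟨x, hx⟩ ^ 2 = 1 := by
    rw [← map_pow]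
    have : (⟨x, hx⟩ : Subgroup.centralizer ({z} : Set SL₂)) ^ 2 = 1 := Subtype.ext hx2
    rw [this, map_one]
  have h2 : f ⟨x, hx⟩ = 1 := by
    have h3 : (f ⟨x, hx⟩ - 1) ^ 2 = 0 := by
      linear_combination h1 + (1 - f ⟨x, hx⟩) * hK2
    exact sub_eq_zero.1 (pow_eq_zero_iff (two_ne_zero)|>.1 h3)
  exact congrArg Subtype.val (hinj1 _ h2)

/-! ### the number of elements -/

/-! ### the normalizer -/

/-- transvections -/
def up (s : F) : SL₂ := ⟨!![1, s; 0, 1], by rw [det_fin_two_of]; ring⟩

end char2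

end Cfsg.Agent.H193.FC

private theorem dce_6ac58e031f3e : _root_.True := by
  try have : _root_.True := by simp only [_root_.Cfsg.Agent.H193.FC.up.eq_1]
  exact _root_.True.intro
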